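import Cfsg.Agent.Lib.U3B.EDef

/-! No element of `N(U)` normalises `Y` and moves `V`. -/

set_option autoImplicit false
set_option linter.unusedSectionVars false
set_option maxHeartbeats 200000

namespace H55.U3.BN

open Subgroup H69 H25.Sz

variable {G : Type*} [Group G] [Finite G] {F K : Type*} [Field F] [Field K] [CharP F 2] [CharP K 2]
  [Big F] [UF F K] [Fintype F] [Fintype K]

namespace EAl

open Frame EF

variable (X : EF G F K)

/-- `n` induces the Siegel transformation with parameter `a` on `U / Z`. -/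
def J (n : G) (a : K) : Prop := (∀ b, n * X.p 0 b = X.p 0 b * n) ∧
  ∀ w x c b, X.R w x c b → X.R (n * w * n⁻¹) x (c + em K x * a) (b + B F a c + x * nm F a)

theorem auto_lemmas : True := by
  have := @J.eq_1.{0,0,0}
  trivial

variable {X}

theorem J.mul {n n' : G} {a a' : K} (h : J X n a) (h' : J X n' a') : J X (n * n') (a + a') := by
  refine ⟨fun b => by rw [mul_assoc, h'.1, ← mul_assoc, h.1, mul_assoc], fun w x c b hw => ?_⟩
  have := h.2 _ _ _ _ (h'.2 _ _ _ _ hw)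
  rw [show n * (n' * w * n'⁻¹) * n⁻¹ = n * n' * w * (n * n')⁻¹ by group] at this
  convert this using 1
  · ring
  · rw [B_add_left, B_add_right, B_em_right, nm_add]; ring

theorem J.h_conj {n : G} {a : K} (h : J X n a) (k : Fˣ) :
    J X (X.h k * n * (X.h k)⁻¹) (em K (k : F) * a) := by
  have e : ∀ w, X.h k * n * (X.h k)⁻¹ * w * (X.h k * n * (X.h k)⁻¹)⁻¹ =
      X.h k * (n * (X.h k⁻¹ * w * (X.h k⁻¹)⁻¹) * n⁻¹) * (X.h k)⁻¹ := fun w => by
    rw [map_inv]; group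
  refine ⟨fun b => ?_, fun w x c b hw => ?_⟩
  · rw [← mul_inv_eq_iff_eq_mul, e, h_conj_z, h.1, mul_inv_cancel_right, h_conj_z]
    congr 1; simp
  · have := (h.2 _ _ _ _ (hw.h_conj k⁻¹)).h_conj k
    have hk : em K (k : F) * em K ((k⁻¹ : Fˣ) : F) = 1 := by rw [← map_mul]; simp
    rw [e]
    convert this using 1
    · rw [mul_add, ← mul_assoc _ _ c, hk]; ring
    · rw [B_em_right, B_em_left, nm_em_mul, Units.val_inv_eq_inv_val]; field_simp

theorem J.r_conj {n : G} {a : K} (h : J X n a) : J X (X.r * n * X.r⁻¹) (X.k0 * a) := by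
  refine ⟨fun b => ?_, fun w x c b hw => ?_⟩
  · rw [mul_assoc, (show Commute X.r (X.p 0 b) from X.r_z b).inv_left.eq, ← mul_assoc, mul_assoc X.r,
      h.1, ← mul_assoc, X.r_z]; group
  · have h0 : X.k0 ≠ 0 := fun e => by simpa [e, nm_zero] using X.k0_nm
    obtain ⟨c, rfl⟩ : ∃ c', c = X.k0 * c' := ⟨c / X.k0, by field_simp⟩
    obtain ⟨w', hw'⟩ := X.R_ex hw.1 c b
    obtain ⟨d, rfl⟩ := hw'.r_conj.eq_mul_z hw
    have := ((h.2 _ _ _ _ hw').mul_z d).r_conj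
    rw [show X.r * n * X.r⁻¹ * (X.r * w' * X.r⁻¹ * X.p 0 d) * (X.r * n * X.r⁻¹)⁻¹ =
      X.r * (n * w' * (X.r⁻¹ * X.p 0 d * X.r) * n⁻¹) * X.r⁻¹ by group, mul_assoc X.r⁻¹, ← X.r_z,
      inv_mul_cancel_left, mul_assoc (n * w'), ← (show Commute n (X.p 0 d) from h.1 d).inv_left.eq,
      ← mul_assoc]
    convert this using 1
    · group
    · ring
    · rw [B_smul, nm_mul, X.k0_nm]; ring

theorem mkJ (hκ : X.κ = 0) {n : G} (hY : n ∈ 𝐍(X.Y))
    (h1 : ∀ c, ∃ v ∈ X.Y, n * X.p c 0 * n⁻¹ = X.p c 0 * v)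
    (h2 : ∀ x ∈ X.Φ, ∃ a b, X.R (n * X.ε x * n⁻¹) x a b) {a : K} {b1 : F}
    (h3 : X.R (n * X.ε 1 * n⁻¹) 1 a b1) : J X n a := by
  have hp : ∀ c, ∃ e, X.R (n * X.p c 0 * n⁻¹) 0 c e := fun c => by
    obtain ⟨v, hv, e⟩ := h1 c
    obtain ⟨b, hv⟩ := mem_Y.1 hv
    exact ⟨b, by simpa [e] using (X.R_p c 0).mul hv⟩
  have hz : ∀ b, n * X.p 0 b * n⁻¹ = X.p 0 b := fun b => by
    obtain ⟨c, rfl⟩ := nm_surj (K := K) b
    obtain ⟨e, he⟩ := hp c
    rw [← X.p_sq c 0, ← conj_mul, he.sq, hκ, p_sq]; simp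
  have hp' : ∀ c d, X.R (n * X.p c d * n⁻¹) 0 c (B F a c) := fun c d => by
    obtain ⟨e, he⟩ := hp c
    have := (h3.comm_iff he).1 (by rw [conj_mul, conj_mul, X.ε_p 1 X.one_mem])
    obtain rfl : B F a c = e := by grind
    rw [X.p_split, ← conj_mul, hz]
    exact he.mul_z d
  have hy : ∀ b, X.R (n * X.y b * n⁻¹) 0 0 b := fun b => by
    obtain ⟨e, he⟩ := mem_Y.1 (conj_mem_of_mem_normalizer hY (mem_Y.2 ⟨b, X.R_y b⟩))
    have := ((X.Cm_y b X.one_mem).conj_by (hz _)).uniq (he.cm h3)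
    obtain rfl : b = e := by simpa [B_zero_left] using this
    exact he
  have hε : ∀ x ∈ X.Φ, X.R (n * X.ε x * n⁻¹) x (em K x * a) (x * nm F a) := fun x hx => by
    by_cases h0 : x = 0
    · subst h0
      simpa [ε_zero, X.p_zero] using X.R_p 0 0
    obtain ⟨a', b', h⟩ := h2 x hx
    obtain rfl : a' = em K x * a := eq_of_add (eq_zero_of_B (F := F) fun c => by
      have := (h.comm_iff (hp' c 0)).1 (by rw [conj_mul, conj_mul, X.ε_p x hx])
      rw [B_add_left, B_em_left]; grind)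
    have := h.sq_iff.1 (by rw [conj_mul, X.ε_sq hx]; group)
    rw [nm_em_mul, hκ] at this
    obtain rfl : b' = x * nm F a := mul_left_cancel₀ h0 (by grind)
    exact h
  refine ⟨fun b => mul_inv_eq_iff_eq_mul.1 (hz b), ?_⟩
  rintro _ x c b ⟨hx, d, rfl⟩
  have := ((hε x hx).mul (hp' c d)).mul (hy b)
  rw [conj_mul, conj_mul] at this
  convert this using 1 <;> ring

theorem exists_J (hκ : X.κ = 0) {g : G} (hg : g ∈ 𝐍(X.U)) (hY : g ∈ 𝐍(X.Y)) (hn : g ∉ 𝐍(X.V)) :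
    ∃ n a, a ≠ 0 ∧ J X n a := by
  have nY : ∀ k, X.h k ∈ 𝐍(X.Y) := fun k => mem_norm fun y hy =>
    let ⟨b, h⟩ := mem_Y.1 hy; mem_Y.2 ⟨_, by simpa using h.h_conj k⟩
  obtain ⟨b0, hb0⟩ := mem_Y.1 (conj_mem_of_mem_normalizer' hY (mem_Y.2 ⟨1, X.R_y 1⟩))
  have cy : ∀ u a b, X.R (g⁻¹ * u * g) 0 a b → u * X.y 1 = X.y 1 * u := fun u a b h => by
    have := (h.comm_iff hb0).2 (by simp [B_zero_right])
    calc _ = g * (g⁻¹ * u * g * (g⁻¹ * X.y 1 * g)) * g⁻¹ := by group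
      _ = _ := by rw [this]; group
  have sp : ∀ w c b, X.R w 0 c b → ∃ v ∈ X.Y, w = X.p c 0 * v := fun w c b h =>
    ⟨_, mem_Y.2 ⟨b, by simpa [add2] using (X.R_p c 0).inv.mul h⟩, by group⟩
  obtain ⟨l, hl, τ, τF, k1, k2, -⟩ := X.aut_gen (Y := X.Y)
    (fun y hy => let ⟨b, h⟩ := mem_Y.1 hy; h.sq_iff.2 (by simp [hκ, nm_zero]))
    (fun y hy a d => let ⟨b, h⟩ := mem_Y.1 hy; (h.comm_iff (X.R_p a d)).2 (by simp [B_zero_left]))
    Z_le_sub (fun a d h => let ⟨b, h⟩ := mem_Y.1 h; ((X.R_p a d).uniq h).2.1) (n := g)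
    (fun a => by
      obtain ⟨x, c, b, h⟩ := mem_U.1 (conj_mem_of_mem_normalizer hg (X.R_p a 0).mem)
      obtain rfl : x = 0 := by
        simpa [B_zero_right] using (h.comm_iff (X.R_y 1)).1
          (cy _ a 0 (by simpa [mul_assoc] using X.R_p a 0))
      exact ⟨c, sp _ _ _ h⟩) hY
  obtain ⟨k, hk, -⟩ := exists_k (F := F)
  let k' : Fˣ := Units.map (τF : F →* F) k
  have key : ∀ x ∈ X.Φ, ∀ x1 a1 b1, X.R (g⁻¹ * X.ε x * g) x1 a1 b1 →
      ∃ b, X.R (g * X.h k * g⁻¹ * (X.h k')⁻¹ * X.ε x * (g * X.h k * g⁻¹ * (X.h k')⁻¹)⁻¹) x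
        (l * τ ((em K (k : F) + 1) * a1)) b := fun x hx x1 a1 b1 h => by
    have h1 := (h.h_conj k).mul h.inv
    rw [add2, ← add_one_mul] at h1
    obtain ⟨v, hv, e⟩ := sp _ _ _ h1
    obtain ⟨v', hv', e'⟩ := k2 ((em K (k : F) + 1) * a1) 0
    obtain ⟨b, h2⟩ := mem_Y.1 (mul_mem hv' (conj_mem_of_mem_normalizer hY hv))
    have h3 := ((X.R_p (l * τ ((em K (k : F) + 1) * a1)) 0).mul h2).mul (X.R_ε hx)
    rw [← mul_assoc, ← e', conj_mul, ← e] at h3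
    refine ⟨b, ?_⟩
    rw [show g * X.h k * g⁻¹ * (X.h k')⁻¹ * X.ε x * (g * X.h k * g⁻¹ * (X.h k')⁻¹)⁻¹ =
      g * X.h k * g⁻¹ * ((X.h k')⁻¹ * (X.ε x * X.h k')) * (g * X.h k * g⁻¹)⁻¹ by group, X.ε_h x hx,
      inv_mul_cancel_left, show g * X.h k * g⁻¹ * X.ε x * (g * X.h k * g⁻¹)⁻¹ =
      g * (X.h k * (g⁻¹ * X.ε x * g) * (X.h k)⁻¹ * (g⁻¹ * X.ε x * g)⁻¹) * g⁻¹ * X.ε x by group]
    simpa using h3
  obtain ⟨x1, a1, b1, h⟩ := mem_U.1 (conj_mem_of_mem_normalizer' hg (X.R_ε X.one_mem).mem)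
  obtain ⟨b, hb⟩ := key 1 X.one_mem _ _ _ h
  refine ⟨_, _, ?_, mkJ hκ (mul_mem (mul_mem (mul_mem hY (nY k)) (inv_mem hY)) (inv_mem (nY k')))
    (X.trans_triv hl k1 k2 hY (nY k) rfl) (fun x hx => ?_) hb⟩
  · refine mul_ne_zero hl ((map_ne_zero τ).2 (mul_ne_zero (add_one_ne_zero fun e =>
      hk (em_inj (K := K) (by rw [e, map_one]))) ?_))
    rintro rfl
    have hx : x1 ≠ 0 := by
      rintro rfl
      simpa [B_zero_left] using ((X.R_ε X.one_mem).comm_iff (X.R_y 1)).1 (cy _ _ _ h)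
    have := h.sq_iff.1 (by
      rw [show g⁻¹ * X.ε 1 * g * (g⁻¹ * X.ε 1 * g) = g⁻¹ * (X.ε 1 * X.ε 1) * g by group,
        X.ε_sq X.one_mem]; group)
    obtain rfl : b1 = 0 := by simpa [hκ, nm_zero, hx] using this
    exact hn (inv_mem_iff.1 (X.mem_norm_V (inv_mem hg) one_ne_zero (X.R_ε X.one_mem)
      (mem_V.2 ⟨x1, by rwa [inv_inv]⟩)))
  · obtain ⟨x1, a1, b1, h⟩ := mem_U.1 (conj_mem_of_mem_normalizer' hg (X.R_ε hx).mem)
    exact ⟨_, key x hx _ _ _ h⟩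

theorem exists_y (hκ : X.κ = 0) : ∃ y : F → G, (∀ b, X.R (y b) 0 0 b) ∧
    (∀ b b', y b * y b' = y (b + b')) ∧
    ∀ (k : Fˣ) b, X.h k * y b * (X.h k)⁻¹ = y ((k : F) ^ 2 * b) := by
  obtain ⟨M, -, hMY, hHM, hMZ, hdec⟩ := rel_maschke (S := X.Y) (K := X.Z) (Y := ⊥) bot_le Z_le_sub
    (fun s hs => let ⟨b, h⟩ := mem_Y.1 hs; h.sq_iff.2 (by simp [hκ, nm_zero])) (A := X.H)
    (X.H_le (fun k => mem_norm fun y hy =>
        let ⟨b, h⟩ := mem_Y.1 hy; mem_Y.2 ⟨_, by simpa using h.h_conj k⟩)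
      (mem_norm fun y hy => let ⟨b, h⟩ := mem_Y.1 hy; mem_Y.2 ⟨_, by simpa using h.r_conj⟩))
    (X.H_le X.h_mem_norm_Z X.r_mem_norm_Z) (by rw [normalizer_eq_top]; exact le_top) X.odd_H
  have hsec : ∀ b, ∃ y ∈ M, X.R y 0 0 b := fun b => by
    obtain ⟨_, ⟨d, rfl⟩, m, hm, e⟩ := hdec _ (mem_Y.2 ⟨b, X.R_y b⟩)
    have := (X.R_p 0 d).inv.mul (e ▸ X.R_y b)
    rw [inv_mul_cancel_left, add_zero, add_zero, zero_add] at this
    exact ⟨m, hm, this⟩
  choose y hy yR using hsec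
  have key : ∀ m ∈ M, ∀ b, X.R m 0 0 b → m = y b := fun m hm b e => by
    have := hMZ _ (mul_mem (inv_mem (hy b)) hm) (R.mem_Z (by simpa [add2] using (yR b).inv.mul e))
    exact (inv_mul_eq_one.1 this).symm
  exact ⟨y, yR, fun b b' => key _ (mul_mem (hy b) (hy b')) _ (by simpa using (yR b).mul (yR b')),
    fun k b => key _ (conj_mem_of_mem_normalizer (hHM (X.h_mem_H k)) (hy b)) _
      (by simpa using (yR b).h_conj k)⟩

end EAl

open EAl Frame EF in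
theorem EH.alpha (X : EH G F K) (hκ : X.κ = 0) {g : G} (hg : g ∈ 𝐍(X.U)) (hY : g ∈ 𝐍(X.Y)) :
    g ∈ 𝐍(X.V) := by
  by_contra hn
  obtain ⟨n, a0, ha0, hJ⟩ := exists_J hκ hg hY hn
  obtain ⟨y, yR, ym, yh⟩ := exists_y (X := X.toEF) hκ
  have yp : ∀ b c d, y b * X.p c d = X.p c d * y b := fun b c d =>
    ((yR b).comm_iff (X.R_p c d)).2 (by simp [B_zero_left])
  have y0 : y 0 = 1 := by simpa using ym 0 0
  have nf : ∀ c d b e c' d' b' e', X.p c d * y b * X.p 0 e * (X.p c' d' * y b' * X.p 0 e') =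
      X.p c d * X.p c' d' * y (b + b') * X.p 0 (e + e') := fun c d b e c' d' b' e' =>
    calc _ = X.p c d * (y b * (X.p 0 e * X.p c' d')) * y b' * X.p 0 e' := by group
      _ = X.p c d * (X.p c' d' * y b * X.p 0 e) * y b' * X.p 0 e' := by
        rw [z_comm, ← mul_assoc (y b), yp]
      _ = X.p c d * X.p c' d' * y b * (X.p 0 e * y b') * X.p 0 e' := by group
      _ = _ := by rw [← yp b' 0 e, ← ym, ← z_mul]; group
  -- the data attached to an element centralising `Y`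
  let A : G → K → (K → F) → Prop := fun s a γ => J X.toEF s a ∧ (∀ b, s * y b * s⁻¹ = y b) ∧
    ∀ c d, s * X.p c d * s⁻¹ = X.p c d * y (B F a c) * X.p 0 (γ c)
  have zz : ∀ s a γ, A s a γ → ∀ b, s * X.p 0 b * s⁻¹ = X.p 0 b := fun s a γ h b => by
    rw [h.1.1, mul_inv_cancel_right]
  have Amul : ∀ s a γ s' a' γ', A s a γ → A s' a' γ' → A (s * s') (a + a') (γ + γ') := by
    intro s a γ s' a' γ' h h'
    have e : ∀ w, s * s' * w * (s * s')⁻¹ = s * (s' * w * s'⁻¹) * s⁻¹ := fun w => by group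
    refine ⟨h.1.mul h'.1, fun b => by rw [e, h'.2.1, h.2.1], fun c d => ?_⟩
    rw [e, h'.2.2, ← conj_mul, ← conj_mul, h.2.2, h.2.1, zz _ _ _ h, B_add_left, ← ym, Pi.add_apply,
      ← z_mul, mul_assoc _ (X.p 0 (γ c)) (y _), ← yp (B F a' c) 0 (γ c)]
    group
  have Aadd : ∀ s a γ, A s a γ → ∀ c c', γ (c + c') = γ c + γ c' := fun s a γ h c c' => by
    have := h.2.2 (c + c') (0 + 0 + cc F c c')
    rw [← X.p_mul, ← conj_mul, h.2.2, h.2.2, B_add_right, nf] at this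
    exact (X.z_inj (mul_left_cancel this)).symm
  have Ah : ∀ s a γ (k : Fˣ), A s a γ → ∃ γ', A (X.h k * s * (X.h k)⁻¹) (em K (k : F) * a) γ' ∧
      ∀ c, γ' (em K (k : F) * c) = (k : F) ^ 2 * γ c := fun s a γ k h => by
    have hk : ∀ c, em K (k : F) * (em K ((k⁻¹ : Fˣ) : F) * c) = c := fun c => by
      rw [← mul_assoc, ← map_mul]; simp
    have hk' : ∀ c, em K ((k⁻¹ : Fˣ) : F) * (em K (k : F) * c) = c := fun c => by
      rw [← mul_assoc, ← map_mul]; simp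
    have hk2 : ∀ b : F, (k : F) ^ 2 * (((k⁻¹ : Fˣ) : F) ^ 2 * b) = b := fun b => by simp
    have e : ∀ w, X.h k * s * (X.h k)⁻¹ * w * (X.h k * s * (X.h k)⁻¹)⁻¹ =
        X.h k * (s * (X.h k⁻¹ * w * (X.h k⁻¹)⁻¹) * s⁻¹) * (X.h k)⁻¹ := fun w => by
      rw [map_inv]; group
    refine ⟨fun c => (k : F) ^ 2 * γ (em K ((k⁻¹ : Fˣ) : F) * c), ⟨h.1.h_conj k, fun b => by
      rw [e, yh, h.2.1, yh, hk2], fun c d => ?_⟩, fun c => by simp only [hk']⟩
    rw [e, X.h_conj, h.2.2, ← conj_mul, ← conj_mul, X.h_conj, yh, h_conj_z, hk, hk2, B_em_right,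
      B_em_left]
    congr 3
    rw [Units.val_inv_eq_inv_val]; field_simp
  have A0 : ∀ s γ, A s 0 γ → ∃ c0, ∀ c, γ c = B F c0 c := fun s γ h => by
    obtain ⟨μ, hμ⟩ := X.trans s fun x hx =>
      (X.R_ε hx).eq_mul_z (by simpa [B_zero_left, nm_zero] using h.1.2 _ _ _ _ (X.R_ε hx))
    have e : ∀ c d, (X.y μ)⁻¹ * s * X.p c d * ((X.y μ)⁻¹ * s)⁻¹ = X.p c (d + γ c) := fun c d => by
      rw [show (X.y μ)⁻¹ * s * X.p c d * ((X.y μ)⁻¹ * s)⁻¹ =
        (X.y μ)⁻¹ * (s * X.p c d * s⁻¹ * X.y μ) by group, h.2.2, B_zero_left, y0, mul_one, p_mul_z,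
        ← X.y_p, inv_mul_cancel_left]
    obtain ⟨c0, hc⟩ := X.inner ((X.y μ)⁻¹ * s) (fun x hx => by
      rw [mul_assoc, mul_inv_eq_iff_eq_mul.1 (hμ x hx), mul_comm μ,
        ← (X.Cm_y μ hx).conj (X.y_p ..)]; group) fun a => ⟨_, e a 0⟩
    exact ⟨c0, fun c => by simpa using (X.p_eq_iff.1 ((e c 0).symm.trans (hc c 0))).2⟩
  -- one element
  obtain ⟨s, a, γ, ha, hs⟩ : ∃ s a γ, a ≠ 0 ∧ A s a γ := by
    have h1 := hJ.r_conj.mul hJ
    have h2 : ∀ b, X.r * n * X.r⁻¹ * n * y b * (X.r * n * X.r⁻¹ * n)⁻¹ = y b := fun b => by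
      obtain ⟨d, e⟩ := (yR b).eq_mul_z
        (by simpa [B_zero_right] using hJ.2 _ _ _ _ (yR b) : X.R (n * y b * n⁻¹) 0 0 b)
      obtain ⟨d', e'⟩ := (X.R_y b).eq_mul_z (yR b)
      have hr : ∀ d, X.r * (y b * X.p 0 d) = y b * X.p 0 d * X.r := fun d => by
        rw [e', mul_assoc (X.y b), z_mul, ← mul_assoc, X.y_r, mul_assoc, X.r_z, mul_assoc]
      have hr0 := hr 0
      rw [p_zero, mul_one] at hr0
      calc _ = X.r * (n * (X.r⁻¹ * (n * y b * n⁻¹ * X.r)) * n⁻¹) * X.r⁻¹ := by group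
        _ = X.r * (n * y b * n⁻¹ * (n * X.p 0 d * n⁻¹)) * X.r⁻¹ := by
          rw [conj_mul, ← e]; nth_rw 1 [e]; rw [← hr, inv_mul_cancel_left, ← e]
        _ = _ := by
          rw [e, hJ.1, mul_inv_cancel_right, mul_assoc (y b), z_sq, mul_one, hr0,
            mul_inv_cancel_right]
    generalize X.r * n * X.r⁻¹ * n = s0 at h1 h2
    choose γ hγ using fun c => ((X.R_p c 0).mul (yR (B F (X.k0 * a0 + a0) c))).eq_mul_z
      (by simpa using h1.2 _ _ _ _ (X.R_p c 0))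
    refine ⟨_, _, γ, ?_, h1, h2, fun c d => ?_⟩
    · rw [← add_one_mul]; exact mul_ne_zero (add_one_ne_zero X.k0_ne) ha0
    · rw [X.p_split, ← conj_mul, hγ, h1.1, mul_inv_cancel_right, mul_assoc, z_comm, ← mul_assoc,
        mul_assoc _ (y _), yp, ← mul_assoc]
  have fam : ∀ k : F, ∃ s' γ', A s' (em K k * a) γ' ∧ (k ≠ 0 → ∀ c, γ' (em K k * c) = k ^ 2 * γ c) :=
    fun k => by
    by_cases hk : k = 0
    · obtain ⟨c0, -⟩ := A0 _ _ (add2 a ▸ Amul _ _ _ _ _ _ hs hs)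
      exact ⟨_, _, by rw [hk, map_zero, zero_mul]; exact add2 a ▸ Amul _ _ _ _ _ _ hs hs,
        fun h => absurd hk h⟩
    · obtain ⟨γ', h1, h2⟩ := Ah s a γ (Units.mk0 k hk) hs
      exact ⟨_, γ', h1, fun _ => h2⟩
  choose S Γ hS hΓ using fam
  have lin : ∀ x c, γ (em K x * c) = x * γ c := fun x c => by
    obtain ⟨x, rfl⟩ := exists_sq x
    have nu : ∀ s' γ', A s' 0 γ' → ∀ c, γ' (em K x * c) + x * γ' c = 0 := fun s' γ' h c => by
      obtain ⟨c0, hc⟩ := A0 s' γ' h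
      rw [hc, hc, B_em_right, add2]
    have g1 : ∀ c, Γ 1 c = γ c := fun c => by simpa using hΓ 1 one_ne_zero c
    have := (bilin (F := F) (fun k v : F => k * v) (fun k (c : K) => em K k * c)
      (fun k c => Γ k (em K x * c) + x * Γ k c) (fun k k' c => ?_) (fun k c c' => ?_)
      (fun _ _ _ => add_mul ..) (fun _ _ _ => by rw [map_add, add_mul]) (fun _ _ _ => mul_assoc ..)
      one_mul (fun _ => by rw [map_one, one_mul]) (fun k hk v c => ?_) x 1 c).2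
    · simp only [g1] at this
      rw [← mul_assoc, ← map_mul, ← pow_two] at this
      grind
    · have h1 := Amul _ _ _ _ _ _ (Amul _ _ _ _ _ _ (hS k) (hS k')) (hS (k + k'))
      rw [← add_mul, ← map_add, add2] at h1
      have := nu _ _ h1 c
      simp only [Pi.add_apply] at this
      grind
    · rw [mul_add, Aadd _ _ _ (hS k), Aadd _ _ _ (hS k)]; ring
    · obtain ⟨γ', h1, h2⟩ := Ah _ _ _ (Units.mk0 k hk) (hS v)
      have h3 := Amul _ _ _ _ _ _ h1 (hS (k * v))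
      rw [Units.val_mk0, ← mul_assoc, ← map_mul, add2] at h3
      have h4 := nu _ _ h3 (em K k * c)
      have h5 := h2 c
      have h6 := h2 (em K x * c)
      simp only [Pi.add_apply, Units.val_mk0] at h4 h5 h6
      rw [mul_left_comm] at h6
      grind
  have sq : ∀ x ∈ X.Φ, s * s * X.ε x * (s * s)⁻¹ = X.ε x * X.p 0 (x ^ 2 * nm F a + x * γ a) :=
    fun x hx => by
    have h1 := (X.R_ε hx).mul (hs.1.2 _ _ _ _ (X.R_ε hx))
    simp only [add2, zero_add, B_zero_right] at h1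
    obtain ⟨d, e⟩ := ((X.R_p (em K x * a) 0).mul (yR (x * nm F a))).eq_mul_z (by simpa using h1)
    have h2 : s * (X.ε x * (s * X.ε x * s⁻¹)) * s⁻¹ =
        X.ε x * (s * X.ε x * s⁻¹) * X.p 0 (x * γ a) := by
      rw [e, ← conj_mul, ← conj_mul, hs.2.2, hs.2.1, zz _ _ _ hs, B_em_right, B_self, mul_zero, y0,
        mul_one, lin, mul_assoc _ (X.p 0 _), ← yp, ← mul_assoc, mul_assoc _ (X.p 0 _), z_comm,
        ← mul_assoc]
    have h3 := h1.sq
    rw [hκ, nm_em_mul, add_zero, zero_mul, add_zero] at h3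
    have h4 : s * X.ε x * s⁻¹ = X.ε x * (X.ε x * (s * X.ε x * s⁻¹)) := by
      rw [← mul_assoc (X.ε x), X.ε_sq hx, one_mul]
    calc _ = s * (s * X.ε x * s⁻¹) * s⁻¹ := by group
      _ = s * X.ε x * s⁻¹ * (s * (X.ε x * (s * X.ε x * s⁻¹)) * s⁻¹) := by
        nth_rw 1 [h4]; group
      _ = _ := by
        rw [h2]; nth_rw 1 [h4]
        rw [mul_assoc (X.ε x), ← mul_assoc (X.ε x * _), h3, z_mul]
  obtain ⟨μ, hμ⟩ := X.trans (s * s) fun x hx => ⟨_, sq x hx⟩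
  obtain ⟨w, hw, w0, w1⟩ := X.four
  have e1 := X.z_inj (mul_left_cancel ((sq 1 X.one_mem).symm.trans (hμ 1 X.one_mem)))
  have e2 := X.z_inj (mul_left_cancel ((sq w hw).symm.trans (hμ w hw)))
  have : w * ((w + 1) * nm F a) = 0 := by grind
  exact mul_ne_zero w0 (mul_ne_zero (add_one_ne_zero w1) (nm_ne_zero ha)) this

end H55.U3.BN
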