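import Cfsg.Agent.Lib.U3B.EDef
import Cfsg.Agent.Lib.U3S.EOv1

/-! The action on the ovoid. -/

set_option autoImplicit false
set_option linter.unusedSectionVars false
set_option maxHeartbeats 200000

namespace H55.U3.BN

open Subgroup H69 H25.Sz

variable {G : Type*} [Group G] [Finite G] {F K : Type*} [Field F] [Field K] [CharP F 2] [CharP K 2]
  [Big F] [UF F K] [Fintype F] [Fintype K]

namespace OV

open EF H55.U3.OV

/-- The element `w` of `U` has coordinates `c` times the point `u`. -/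
def Pt (X : EF G F K) (w : G) : Option K → F → Prop
  | some a, c => X.R w c (em K c * a) (c * nm F a)
  | none, c => X.R w 0 0 c

theorem eqns2 : True := by
  have := @Pt.eq_1.{0,0,0}; have := @Pt.eq_2.{0,0,0}; have := @Pt.eq_def.{0,0,0}
  trivial

variable {X : EF G F K}

theorem Pt.mem {w : G} {u : Option K} {c : F} (h : Pt X w u c) : w ∈ X.U := by
  rcases u with _ | a <;> exact R.mem h

theorem Pt.cm {w w' : G} {u v : Option K} {c d : F} (h : Pt X w u c) (h' : Pt X w' v d) :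
    X.Cm w w' (c * d * D F u v) := by
  rcases u with _ | a <;> rcases v with _ | b <;> have := R.cm h h' <;> convert this using 1
  · simp [D, B_zero_left]
  · simp [D, B_zero_left, mul_comm]
  · simp [D, B_zero_right]
  · rw [D_ss, nm_add, B_em_left, B_em_right]; ring

theorem Pt.sq (hκ : X.κ = 0) {w : G} {u : Option K} {c : F} (h : Pt X w u c) : w * w = 1 := by
  rcases u with _ | a
  · exact (R.sq_iff h).2 (by simp [hκ, nm_zero])
  · exact (R.sq_iff h).2 (by rw [hκ, nm_em_mul]; linear_combination add2 (c ^ 2 * nm F a))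

theorem Pt.mem_Z {w : G} {u : Option K} {c : F} (h : Pt X w u c) : w ∈ X.Z ↔ c = 0 := by
  refine ⟨?_, ?_⟩
  · rintro ⟨d, rfl⟩
    rcases u with _ | a
    · exact (R.uniq h (X.R_p 0 d)).2.2
    · exact (R.uniq h (X.R_p 0 d)).1
  · rintro rfl
    rcases u with _ | a
    · exact R.mem_Z h
    · exact R.mem_Z (by simpa [Pt] using h)

theorem Pt_z {w : G} (h : w ∈ X.Z) (u : Option K) : Pt X w u 0 := by
  obtain ⟨d, rfl⟩ := h
  rcases u with _ | a
  · exact X.R_p 0 d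
  · simpa [Pt] using X.R_p 0 d

theorem Pt_ex (hΦ : ∀ x, x ∈ X.Φ) (u : Option K) (c : F) : ∃ w, Pt X w u c := by
  rcases u with _ | a <;> exact X.R_ex (hΦ _) _ _

theorem exists_Pt (hκ : X.κ = 0) {w : G} (hw : w ∈ X.U) (h : w * w = 1) : ∃ u c, Pt X w u c := by
  obtain ⟨x, a, b, hw⟩ := mem_U.1 hw
  have e := hw.sq_iff.1 h
  rw [hκ, zero_add] at e
  by_cases hx : x = 0
  · subst hx
    obtain rfl : a = 0 := by simpa [nm_eq_zero] using e
    exact ⟨none, b, hw⟩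
  · have hx' : em K x ≠ 0 := fun e => hx (em_eq_zero.1 e)
    obtain ⟨a, rfl⟩ : ∃ a', a = em K x * a' := ⟨a / em K x, by field_simp⟩
    rw [nm_em_mul] at e
    obtain rfl : b = x * nm F a := mul_left_cancel₀ hx (by
      linear_combination e - add2 (x ^ 2 * nm F a))
    exact ⟨some a, x, hw⟩

theorem Pt.uniq {w : G} {u v : Option K} {c d : F} (h : Pt X w u c) (h' : Pt X w v d) (hc : c ≠ 0) :
    u = v := by
  have hd : d ≠ 0 := fun e => hc (h.mem_Z.1 (h'.mem_Z.2 e))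
  have := (h.cm h').uniq (X.Cm_zero.2 rfl)
  exact D_eq_zero ((mul_eq_zero.1 this).resolve_left (mul_ne_zero hc hd))

theorem conj_ne {n w : G} (hn : n ∈ 𝐍(X.U)) {u v : Option K} {c d : F} (h : Pt X w u c)
    (h' : Pt X (n * w * n⁻¹) v d) (hc : c ≠ 0) : d ≠ 0 := fun e => by
  have := conj_mem_of_mem_normalizer' (X.norm_U_le hn) (h'.mem_Z.2 e)
  rw [show n⁻¹ * (n * w * n⁻¹) * n = w by group] at this
  exact hc (h.mem_Z.1 this)

theorem exists_act (hκ : X.κ = 0) (hΦ : ∀ x, x ∈ X.Φ) (n : 𝐍(X.U)) (u : Option K) :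
    ∃ v, ∀ w c, Pt X w u c → ∃ d, Pt X (n * w * (n : G)⁻¹) v d := by
  have key : ∀ w c, Pt X w u c → ∃ v d, Pt X (n * w * (n : G)⁻¹) v d := fun w c h =>
    exists_Pt hκ (conj_mem_of_mem_normalizer n.2 h.mem) (by rw [conj_mul, h.sq hκ]; group)
  obtain ⟨w0, h0⟩ := Pt_ex hΦ u 1
  obtain ⟨v, d0, h1⟩ := key w0 1 h0
  refine ⟨v, fun w c h => ?_⟩
  obtain ⟨v', d, h2⟩ := key w c h
  by_cases hd : d = 0
  · exact ⟨0, Pt_z (h2.mem_Z.2 hd) v⟩
  · have h3 := h0.cm h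
    rw [D_self, mul_zero, Frame.Cm_zero] at h3
    have h4 := (h1.cm h2).uniq (X.Cm_zero.2 (by rw [conj_mul, conj_mul, h3]))
    obtain rfl := D_eq_zero ((mul_eq_zero.1 h4).resolve_left
      (mul_ne_zero (conj_ne n.2 h0 h1 one_ne_zero) hd))
    exact ⟨d, h2⟩

/-- A conjugate of an element acting on `Z` by a scalar acts on `Z` by a scalar. -/
theorem scalar (hΦ : ∀ x, x ∈ X.Φ) {g : G} (hg : g ∈ 𝐍(X.U)) (s : F) :
    ∃ t, ∀ b d, g * X.p 0 b * g⁻¹ = X.p 0 d → g * X.p 0 (s * b) * g⁻¹ = X.p 0 (t * d) := by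
  obtain ⟨x1, a1, b1, h1⟩ := mem_U.1 (conj_mem_of_mem_normalizer hg (X.R_ε (hΦ 1)).mem)
  obtain ⟨x2, a2, b2, h2⟩ := mem_U.1 (conj_mem_of_mem_normalizer hg (X.R_ε (hΦ s)).mem)
  have key : ∀ x a b e, g * X.p 0 e * g⁻¹ = X.p 0 (B F a1 a + (x1 * b + x * b1)) →
      g * X.p 0 (s * e) * g⁻¹ = X.p 0 (B F a2 a + (x2 * b + x * b2)) := by
    intro x a b e he
    obtain ⟨w, hw⟩ := X.R_ex (hΦ x) a b
    obtain ⟨x', a', b', h3⟩ := mem_U.1 (conj_mem_of_mem_normalizer' hg hw.mem)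
    have k1 := (X.R_ε (hΦ 1)).cm h3
    have k2 := (X.R_ε (hΦ s)).cm h3
    simp only [B_zero_left, one_mul, mul_zero, add_zero, zero_add] at k1 k2
    obtain ⟨d1, e1⟩ := conj_mem_of_mem_normalizer (X.norm_U_le hg) (X.z_mem_Z b')
    obtain ⟨d2, e2⟩ := conj_mem_of_mem_normalizer (X.norm_U_le hg) (X.z_mem_Z (s * b'))
    have k3 := k1.conj_by e1
    have k4 := k2.conj_by e2
    rw [show g * (g⁻¹ * w * g) * g⁻¹ = w by group] at k3 k4
    rw [← k3.uniq (h1.cm hw), ← e1] at he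
    obtain rfl : e = b' := X.z_inj (mul_left_cancel (mul_right_cancel he))
    rw [e2, k4.uniq (h2.cm hw)]
  obtain ⟨e, he⟩ := conj_mem_of_mem_normalizer' (X.norm_U_le hg) (X.z_mem_Z 1)
  obtain ⟨x, a, b, h3⟩ := mem_U.1 (conj_mem_of_mem_normalizer hg (X.R_y e).mem)
  have k1 := ((X.Cm_y e (hΦ 1)).symm).conj_by (g := g) (d := 1) (by rw [one_mul, ← he]; group)
  have k2 := k1.uniq (h1.cm h3)
  refine ⟨B F a2 a + (x2 * b + x * b2), fun b' d hd => ?_⟩
  have := key (d * x) (em K d * a) (d * b) b' (by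
    rw [hd, B_em_right]; congr 1; linear_combination d * k2)
  rw [this, B_em_right]; congr 1; ring

end OV

open OV EF H55.U3.OV in
theorem EH.ovoid (X : EH G F K) (hκ : X.κ = 0) (hΦ : ∀ x, x ∈ X.Φ)
    (hY : ∀ n ∈ 𝐍(X.U), n ∈ 𝐍(X.Y) → n ∈ 𝐍(X.V)) {g : G} (hg : g ∈ 𝐍(X.U)) :
    g * X.ε 1 * g⁻¹ ∈ X.V ∨ g * X.ε 1 * g⁻¹ ∈ X.Y := by
  choose act hact using exists_act (X := X.toEF) hκ hΦ
  have uq : ∀ (n : 𝐍(X.U)) u v w c d, Pt X.toEF w u c → c ≠ 0 →
      Pt X.toEF (n * w * (n : G)⁻¹) v d → act n u = v := fun n u v w c d h hc h' => by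
    obtain ⟨e, he⟩ := hact n u w c h
    exact he.uniq h' (conj_ne n.2 h he hc)
  let _ : MulAction 𝐍(X.U) (Option K) :=
    { smul := act
      one_smul := fun u => by
        obtain ⟨w, hw⟩ := Pt_ex (X := X.toEF) hΦ u 1
        exact uq 1 u u w 1 1 hw one_ne_zero (by simpa using hw)
      mul_smul := fun m n u => by
        obtain ⟨w, hw⟩ := Pt_ex (X := X.toEF) hΦ u 1
        obtain ⟨c, hc⟩ := hact n u w 1 hw
        obtain ⟨d, hd⟩ := hact m _ _ c hc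
        refine uq (m * n) u _ w 1 d hw one_ne_zero ?_
        rwa [show ((m * n : 𝐍(X.U)) : G) * w * ((m * n : 𝐍(X.U)) : G)⁻¹ =
          m * (n * w * (n : G)⁻¹) * (m : G)⁻¹ by rw [coe_mul]; group] }
  have sm : ∀ (n : 𝐍(X.U)) (u : Option K), n • u = act n u := fun _ _ => rfl
  have ne0 : ∀ (m : G) (s : F), (∀ b, m * X.p 0 b * m⁻¹ = X.p 0 (s * b)) → s ≠ 0 := by
    rintro m s h rfl
    have := h 1
    rw [zero_mul, X.p_zero, conj_eq_one_iff, X.p_eq_one] at this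
    exact one_ne_zero this.2
  let S : Subgroup 𝐍(X.U) :=
    { carrier := {m | ∃ s : F, ∀ b, m * X.p 0 b * (m : G)⁻¹ = X.p 0 (s * b)}
      one_mem' := ⟨1, fun b => by simp⟩
      mul_mem' := by
        rintro m n ⟨s, hs⟩ ⟨t, ht⟩
        exact ⟨s * t, fun b => by rw [mul_assoc s, ← hs, ← ht, coe_mul]; group⟩
      inv_mem' := by
        rintro m ⟨s, hs⟩
        refine ⟨s⁻¹, fun b => ?_⟩
        have := hs (s⁻¹ * b)
        rw [mul_inv_cancel_left₀ (ne0 _ s hs)] at this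
        rw [← this, coe_inv]; group }
  have hS : S.Normal := ⟨by
    rintro m ⟨s, hs⟩ n
    obtain ⟨t, ht⟩ := scalar (X := X.toEF) hΦ n.2 s
    refine ⟨t, fun d => ?_⟩
    obtain ⟨b, hb⟩ := conj_mem_of_mem_normalizer' (X.norm_U_le n.2) (X.z_mem_Z d)
    rw [← ht b d (by rw [← hb]; group), ← hs, ← hb, coe_mul, coe_mul, coe_inv]; group⟩
  have hV : ∀ w, w ∈ X.V ↔ ∃ c, Pt X.toEF w (some 0) c := fun w => by
    simp only [mem_V, Pt, mul_zero, nm_zero]
  have hY' : ∀ w, w ∈ X.Y ↔ ∃ c, Pt X.toEF w none c := fun w => mem_Y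
  have st : ∀ (A : Subgroup G) (u : Option K), (∀ w, w ∈ A ↔ ∃ c, Pt X.toEF w u c) →
      ∀ n : 𝐍(X.U), n • u = u ↔ (n : G) ∈ 𝐍(A) := fun A u hA n => by
    refine ⟨fun h => mem_norm fun w hw => ?_, fun h => ?_⟩
    · obtain ⟨c, hc⟩ := (hA w).1 hw
      have := hact n u w c hc
      rw [← sm, h] at this
      exact (hA _).2 this
    · obtain ⟨w, hw⟩ := Pt_ex (X := X.toEF) hΦ u 1
      obtain ⟨d, hd⟩ := (hA _).1 (conj_mem_of_mem_normalizer h ((hA w).2 ⟨1, hw⟩))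
      exact uq n u u w 1 d hw one_ne_zero hd
  have tor : ∀ (η : 𝐍(X.U)) (γ : K), (∀ w x a b, X.R w x a b →
      X.R (η * w * (η : G)⁻¹) x (γ * a) (nm F γ * b)) →
      η • (none : Option K) = none ∧ ∀ a : K, η • some a = some (γ * a) := fun η γ h => by
    refine ⟨uq η _ _ _ 1 (nm F γ * 1) (X.R_y 1) one_ne_zero
      (by simpa [Pt] using h _ _ _ _ (X.R_y 1)), fun a => ?_⟩
    obtain ⟨w, hw⟩ := Pt_ex (X := X.toEF) hΦ (some a) 1
    refine uq η _ _ w 1 1 hw one_ne_zero ?_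
    have := h _ _ _ _ hw
    simpa [Pt, nm_mul] using this
  have main := pair (F := F) S (fun m hm => ?_) (fun k => ⟨⟨X.h k, X.h_norm_U k⟩, ⟨(k : F) ^ 2, X.h_conj_z k⟩,
      tor _ _ fun w x a b h => by rw [nm_em]; exact h.h_conj k⟩) X.k0_nm X.k0_ne
    ⟨⟨X.r, X.r_norm_U⟩, ⟨1, fun b => by rw [one_mul, X.r_z, mul_inv_cancel_right]⟩,
      tor _ _ fun w x a b h => by rw [X.k0_nm, one_mul]; exact h.r_conj⟩
    (fun n => by
      rw [st _ _ hV, st _ _ hY']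
      exact ⟨X.nY n n.2, hY n n.2⟩) ⟨g, hg⟩
  · obtain ⟨d, hd⟩ := hact ⟨g, hg⟩ (some 0) (X.ε 1) 1 (by simpa [Pt, nm_zero] using X.R_ε (hΦ 1))
    rw [← sm] at hd
    rcases main with e | e <;> rw [e] at hd
    · exact Or.inl ((hV _).2 ⟨d, hd⟩)
    · exact Or.inr ((hY' _).2 ⟨d, hd⟩)
  · obtain ⟨t, ht⟩ := hm
    choose w hw using fun u => Pt_ex (X := X.toEF) hΦ u 1
    choose c hc using fun u => hact m u _ _ (hw u)
    refine ⟨t, c, ne0 _ t ht, fun u v => ?_⟩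
    have := ((hc u).cm (hc v)).uniq (((hw u).cm (hw v)).conj_by (ht _))
    rwa [one_mul, one_mul] at this

end H55.U3.BN
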