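import Cfsg.Agent.Lib.U3B.EKey

/-! `Z` is strongly closed. -/

set_option autoImplicit false
set_option linter.unusedSectionVars false
set_option maxHeartbeats 200000

namespace H55.U3.BN

open Subgroup H69 H25.Sz

variable {G : Type*} [Group G] [Finite G] {F K : Type*} [Field F] [Field K] [CharP F 2] [CharP K 2]
  [Big F] [UF F K] [Fintype F] [Fintype K]

namespace EZc

/-- A family with additive coordinates gives a covering subgroup of the first kind. -/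
theorem covK (X : EF G F K) {j : G} (hz : ∀ b, j * X.p 0 b = X.p 0 b * j) (x : K → G)
    (α β : K → F) (hR : ∀ a, X.R (x a) (α a) a (β a)) (hα : ∀ a a', α (a + a') = α a + α a')
    (hβ : ∀ a a', β (a + a') = β a + β a') (h0 : ∀ a a', α a * β a' + α a' * β a = 0)
    (hj : ∀ a, j * x a = x a * j) : X.Cov (X.U ⊓ centralizer {j}) :=
  X.cov_K (fun _ h => X.U_sq h.1) x
    (fun a => ⟨(hR a).mem, mem_centralizer_singleton_iff.2 (hj a).symm⟩) (fun a => (hR a).mem)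
    (by
      rintro _ ⟨b, rfl⟩
      exact ⟨(X.R_p 0 b).mem, mem_centralizer_singleton_iff.2 (hz b).symm⟩)
    (fun a a' => (hR (a + a')).eq_mul_z (by rw [hα, hβ]; exact (hR a).mul (hR a')))
    fun a a' => by simpa [h0] using (hR a).cm (hR a')

/-- A family with additive coordinates gives a covering subgroup of the second kind. -/
theorem covΦ (X : EF G F K) {j : G} (hz : ∀ b, j * X.p 0 b = X.p 0 b * j) (x : F → F → G)
    (α : F → F → K) (hR : ∀ l ∈ X.Φ, ∀ b, X.R (x l b) l (α l b) b)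
    (hα : ∀ l l' b b', α (l + l') (b + b') = α l b + α l' b')
    (h0 : ∀ l l' b b', B F (α l b) (α l' b') = 0)
    (hj : ∀ l ∈ X.Φ, ∀ b, j * x l b = x l b * j) : X.Cov (X.U ⊓ centralizer {j}) :=
  X.cov_Φ (fun _ h => X.U_sq h.1) x
    (fun l hl b => ⟨(hR l hl b).mem, mem_centralizer_singleton_iff.2 (hj l hl b).symm⟩)
    (fun l hl b => (hR l hl b).mem)
    (by
      rintro _ ⟨b, rfl⟩
      exact ⟨(X.R_p 0 b).mem, mem_centralizer_singleton_iff.2 (hz b).symm⟩)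
    (fun l hl l' hl' b b' => (hR _ (add_mem hl hl') (b + b')).eq_mul_z
      (by rw [hα]; exact (hR l hl b).mul (hR l' hl' b')))
    fun l hl l' hl' b b' => by simpa [h0] using (hR l hl b).cm (hR l' hl' b')

/-- Every element of `U` centralises a covering subgroup. -/
theorem cov_U (X : EF G F K) {j : G} (hj : j ∈ X.U) : X.Cov (X.U ⊓ centralizer {j}) := by
  obtain ⟨x, a, b, h⟩ := EF.mem_U.1 hj
  by_cases hx : x = 0
  · subst hx
    by_cases ha : a = 0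
    · subst ha
      exact covK X h.z (fun a => X.p a 0) (fun _ => 0) (fun _ => 0) (fun a => X.R_p a 0)
        (by simp) (by simp) (by simp)
        fun a => (h.comm_iff (X.R_p a 0)).2 (by simp [B_zero_left])
    · obtain ⟨a1, h1⟩ := B_surj (F := F) ha b
      refine covΦ X h.z (fun l b' => X.ε l * X.p (em K l * a1) 0 * X.y b') (fun l _ => em K l * a1)
        (fun l hl b' => ⟨hl, 0, rfl⟩) (fun _ _ _ _ => by rw [map_add, add_mul])
        (fun _ _ _ _ => by rw [B_em_left, B_em_right, B_self, mul_zero, mul_zero]) fun l hl b' => ?_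
      refine (h.comm_iff ⟨hl, 0, rfl⟩).2 ?_
      rw [B_em_right, h1, zero_mul, zero_add, add2]
  · refine covK X h.z (fun a' => X.ε 0 * X.p a' 0 * X.y (B F a a' / x)) (fun _ => 0)
      (fun a' => B F a a' / x) (fun a' => ⟨zero_mem _, 0, rfl⟩) (by simp)
      (fun _ _ => by rw [B_add_right, add_div]) (by simp) fun a' => ?_
    refine (h.comm_iff ⟨zero_mem _, 0, rfl⟩).2 ?_
    rw [mul_div_cancel₀ _ hx, zero_mul, add_zero, add2]

/-- An element fixing the coordinates of `w` has a commutator with it in `Z`. -/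
theorem cm_of_R {X : EF G F K} {j w : G} {x a b} (hz : ∀ b, j * X.p 0 b = X.p 0 b * j)
    (h : X.R w x a b) (h' : X.R (j * w * j⁻¹) x a b) : ∃ d, X.Cm j w d :=
  let ⟨d, e⟩ := h.eq_mul_z h'
  ⟨d, X.Cm_of_conj e (hz d)⟩

theorem cm_of_inv {X : EF G F K} {j w : G} {x a b} (hz : ∀ b, j * X.p 0 b = X.p 0 b * j)
    (h : X.R w x a b) (e : j * w * j⁻¹ = w⁻¹) : X.Cm j w (nm F a + (X.κ + x) * b) :=
  X.Cm_of_conj (by rw [e, ← X.z_inv, ← h.sq]; group) (hz _)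

/-- An outer involution inverts the preimage of `F`. -/
theorem cm_out (X : EF G F K) {j : G} (hj : j ∈ X.S1) (hn : j ∉ X.U) (h2 : j * j = 1) (a : F) :
    X.Cm j (X.p (em K a) 0) (a ^ 2) := by
  obtain ⟨k1, k2, -⟩ := X.out hj hn (h2 ▸ one_mem _)
  have := cm_of_inv k2 (X.R_p (em K a) 0) (X.inverts (l := 1) nm_one k2 (fun a b => by
    obtain ⟨d, e⟩ := (X.R_p (cj F a) 0).eq_mul_z (k1 _ _ _ _ (X.R_p a b))
    exact ⟨0 + d, by rw [e, one_mul, X.p_mul_z]⟩) (by simp [h2]) (by rw [one_mul, cj_em]) 0)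
  rwa [mul_zero, add_zero, nm_em] at this

theorem cov_out (X : EH G F K) {j : G} (hj : j ∈ X.S1) (hn : j ∉ X.U) (h2 : j * j = 1) :
    X.Cov (X.U ⊓ centralizer {j}) := by
  obtain ⟨k1, k2, -⟩ := X.out hj hn (h2 ▸ one_mem _)
  obtain ⟨μ, hμ⟩ := X.trans j fun x hx =>
    (X.R_ε hx).eq_mul_z (by simpa using k1 _ _ _ _ (X.R_ε hx))
  have hy : ∀ b, ∃ d, X.Cm j (X.y b) d := fun b =>
    cm_of_R k2 (X.R_y b) (by simpa using k1 _ _ _ _ (X.R_y b))
  choose c hc using hy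
  have ca : ∀ b b', c (b + b') = c b + c b' := fun b b' => by
    obtain ⟨d, e⟩ := X.y_mul b b'
    have e1 := (hc b).mul_right (hc b') (X.y_p ..)
    have e2 := (hc (b + b')).mul_right (X.Cm_zero.2 (k2 d)) (X.z_comm ..)
    rw [← e, add_zero] at e2
    exact e2.uniq e1
  choose s hs using exists_sq (R := F)
  refine covΦ X.toEF k2 (fun l b => X.ε l * X.p (em K (s (μ * l + c b))) 0 * X.y b)
    (fun l b => em K (s (μ * l + c b))) (fun l hl b' => ⟨hl, 0, rfl⟩)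
    (fun l l' b b' => by
      rw [← map_add]; congr 1
      exact sq_inj (by rw [add_sq', hs, hs, hs, ca]; ring))
    (fun _ _ _ _ => B_em_em ..) fun l hl b => ?_
  have e := ((X.Cm_of_conj (hμ l hl) (k2 _)).mul_right (cm_out X.toEF hj hn h2 (s (μ * l + c b)))
    (X.z_comm ..).symm).mul_right (hc b) (X.y_p ..)
  rw [hs, show μ * l + (μ * l + c b) + c b = 0 by rw [← add_assoc, add2, zero_add, add2]] at e
  exact X.Cm_zero.1 e

/-- An involution interchanging `V` and `Y` inverts `ε x ⬝ (ε x)^j`. -/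
theorem cm_swap {X : EF G F K} (hκ : X.κ = 0) {j : G} (hz : ∀ b, j * X.p 0 b = X.p 0 b * j)
    (h2 : j * j = 1) {γ x : F} (hx : x ∈ X.Φ) (h : X.R (j * X.ε x * j⁻¹) 0 0 (γ * x)) :
    X.R (X.ε x * (j * X.ε x * j⁻¹)) x 0 (γ * x) ∧
      X.Cm j (X.ε x * (j * X.ε x * j⁻¹)) (γ * x ^ 2) := by
  have k : X.R (X.ε x * (j * X.ε x * j⁻¹)) x 0 (γ * x) := by simpa using (X.R_ε hx).mul h
  refine ⟨k, ?_⟩
  have e1 : j⁻¹ = j := inv_eq_of_mul_eq_one_right h2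
  have e2 : (X.ε x)⁻¹ = X.ε x := inv_eq_of_mul_eq_one_right (X.ε_sq hx)
  have := cm_of_inv hz k (by
    simp only [mul_inv_rev, e1, e2]
    calc _ = j * X.ε x * j * X.ε x * (j * j) := by group
      _ = _ := by rw [h2]; group)
  rwa [nm_zero, hκ, zero_add, zero_add, show x * (γ * x) = γ * x ^ 2 by ring] at this

theorem cov_swap {X : EF G F K} (hκ : X.κ = 0) (hΦ : ∀ x, x ∈ X.Φ) {j : G}
    (hz : ∀ b, j * X.p 0 b = X.p 0 b * j) (h2 : j * j = 1) {γ : F} (hγ : γ ≠ 0)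
    (h : ∀ w x a b, X.R w x a b → X.R (j * w * j⁻¹) (b / γ) a (γ * x)) :
    X.Cov (X.U ⊓ centralizer {j}) := by
  have hp : ∀ a, ∃ d, X.Cm j (X.p a 0) d := fun a =>
    cm_of_R hz (X.R_p a 0) (by simpa using h _ _ _ _ (X.R_p a 0))
  choose δ hδ using hp
  have ca : ∀ a a', δ (a + a') = δ a + δ a' := fun a a' => by
    have e1 := (hδ a).mul_right (hδ a') (X.z_comm ..).symm
    have e2 := (hδ (a + a')).mul_right (X.Cm_zero.2 (hz (cc F a a'))) (X.z_comm ..)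
    rw [X.p_mul_z, add_zero] at e2
    rw [X.p_mul, add_zero] at e1
    exact e2.uniq e1
  choose s hs using exists_sq (R := F)
  have k := fun x => cm_swap hκ hz h2 (γ := γ) (hΦ x) (by simpa using h _ _ _ _ (X.R_ε (hΦ x)))
  have sa : ∀ a a', s (δ (a + a') / γ) = s (δ a / γ) + s (δ a' / γ) := fun a a' =>
    sq_inj (by rw [add_sq', hs, hs, hs, ca, add_div])
  refine covK X hz (fun a => X.p a 0 * (X.ε (s (δ a / γ)) * (j * X.ε (s (δ a / γ)) * j⁻¹)))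
    (fun a => s (δ a / γ)) (fun a => γ * s (δ a / γ))
    (fun a => by simpa using (X.R_p a 0).mul (k _).1) sa (fun a a' => by rw [sa, mul_add])
    (fun a a' => by rw [mul_left_comm, mul_left_comm (s (δ a' / γ)), mul_comm (s (δ a' / γ)), add2])
    fun a => ?_
  have e := (hδ a).mul_right (k (s (δ a / γ))).2 ((k _).1.z _)
  rw [hs, mul_div_cancel₀ _ hγ, add2] at e
  exact X.Cm_zero.1 e

variable (X : EH G F K) {S : Subgroup G} (hS : IsSylowIn 2 S ⊤) (h1 : X.S1 ≤ S)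
  (hN : S ≤ 𝐍(X.U)) (hsw : X.Sw S)
include hS h1 hN hsw

/-- In the interchange case every involution `x` of `S ∖ Z` is conjugate to `x z`. -/
theorem conj_mul_z (hκ : X.κ = 0) (hΦ : ∀ x, x ∈ X.Φ) {j : G} (hj : j ∈ S) (hn : j ∉ X.Z)
    (h2 : j * j = 1) (d : F) : ∃ u, X.Cm j u d := by
  by_cases hU : j ∈ X.U
  · obtain ⟨x, a, b, h⟩ := EF.mem_U.1 hU
    by_cases ha : a = 0
    · subst ha
      by_cases hx : x = 0
      · subst hx
        have hb : b ≠ 0 := by rintro rfl; exact hn h.mem_Z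
        have := h.cm (X.R_ε (hΦ (d / b)))
        exact ⟨_, by simpa [B_zero_left, div_mul_cancel₀ _ hb] using this⟩
      · have := h.cm (X.R_y (d / x))
        exact ⟨_, by simpa [B_zero_left, mul_div_cancel₀ _ hx] using this⟩
    · obtain ⟨c, hc⟩ := B_surj (F := F) ha d
      have := h.cm (X.R_p c 0)
      exact ⟨_, by simpa [hc] using this⟩
  · by_cases h3 : j ∈ X.S1
    · obtain ⟨a, rfl⟩ := exists_sq d
      exact ⟨_, cm_out X.toEF h3 hU h2 a⟩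
    · obtain ⟨hz, γ, hγ, l, -, h, -⟩ := X.swap hS.isP h1 hN hsw hj h3 (h2 ▸ one_mem _)
      obtain ⟨x, hx⟩ := exists_sq (d / γ)
      have := (cm_swap hκ hz h2 (γ := γ) (hΦ x) (by
        rcases h with h | h <;> simpa using h _ _ _ _ (X.R_ε (hΦ x)))).2
      rw [hx, mul_div_cancel₀ _ hγ] at this
      exact ⟨_, this⟩

variable {b0 : F} (hc : ∀ s ∈ S, s * X.p 0 b0 = X.p 0 b0 * s)
include hc

theorem ext {g : G} : ∃ k, k * X.p 0 b0 * k⁻¹ = g * X.p 0 b0 * g⁻¹ ∧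
    ∀ x ∈ S, x * (g * X.p 0 b0 * g⁻¹) = g * X.p 0 b0 * g⁻¹ * x → k⁻¹ * x * k ∈ S := by
  have e : S ⊓ centralizer {X.p 0 b0} = S :=
    inf_eq_left.2 fun s hs => mem_centralizer_singleton_iff.2 (hc s hs)
  obtain ⟨k, -, e1, hk⟩ := extremal (S := S) (N := ⊤) (z := X.p 0 b0) (by
    rw [e]; exact hS.mono (le_inf hS.le (e ▸ inf_le_right)) inf_le_left) (mem_top g)
    (R := S ⊓ centralizer {g * X.p 0 b0 * g⁻¹}) (hS.isP.to_le inf_le_left) le_top
    fun x hx => mem_centralizer_singleton_iff.1 hx.2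
  exact ⟨k, e1, fun x hx h => hk x ⟨hx, mem_centralizer_singleton_iff.2 h⟩⟩

theorem of_cov {g : G} (h : X.Cov (X.U ⊓ centralizer {g * X.p 0 b0 * g⁻¹})) :
    g * X.p 0 b0 * g⁻¹ ∈ X.Z := by
  obtain ⟨k, e, hk⟩ := ext X hS h1 hN hsw hc (g := g)
  rw [← e]
  exact conj_mem_of_mem_normalizer (X.key hS.isP h1 hN hsw h fun x hx =>
    hk x (h1 (X.U_le hx.1)) (mem_centralizer_singleton_iff.1 hx.2)) (X.z_mem_Z b0)

theorem closed (hb : b0 ≠ 0) {g : G} (hj : g * X.p 0 b0 * g⁻¹ ∈ S) : g * X.p 0 b0 * g⁻¹ ∈ X.Z := by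
  have hU : ∀ g : G, g * X.p 0 b0 * g⁻¹ ∈ X.U → g * X.p 0 b0 * g⁻¹ ∈ X.Z := fun g h =>
    of_cov X hS h1 hN hsw hc (cov_U X.toEF h)
  have h2 : g * X.p 0 b0 * g⁻¹ * (g * X.p 0 b0 * g⁻¹) = 1 := by
    rw [conj_mul, X.z_sq]; group
  by_cases h3 : g * X.p 0 b0 * g⁻¹ ∈ X.S1
  · by_cases h4 : g * X.p 0 b0 * g⁻¹ ∈ X.U
    · exact hU g h4
    · exact of_cov X hS h1 hN hsw hc (cov_out X h3 h4 h2)
  obtain ⟨hκ, hΦ, -⟩ := hsw _ hj h3
  obtain ⟨hz, γ, hγ, l, -, h | h, -⟩ := X.swap hS.isP h1 hN hsw hj h3 (h2 ▸ one_mem _)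
  · exact of_cov X hS h1 hN hsw hc (cov_swap hκ hΦ hz h2 hγ h)
  exfalso
  obtain ⟨k, e, hk⟩ := ext X hS h1 hN hsw hc (g := g)
  generalize g * X.p 0 b0 * g⁻¹ = j at *
  obtain ⟨c, hc0⟩ : ∃ c : K, l * cj F c + c ≠ 0 := by
    by_cases hl : l = 1
    · exact ⟨om F K, by rw [hl, one_mul, add_comm, om_add]; exact one_ne_zero⟩
    · exact ⟨1, by rw [map_one, mul_one]; exact add_one_ne_zero hl⟩
  obtain ⟨x, hx⟩ := exists_sq (nm F (l * cj F c + c) / γ)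
  obtain ⟨w, hw⟩ := X.R_ex (hΦ x) c 0
  have k1 : X.R (j * w⁻¹ * j⁻¹ * w) x (l * cj F c + c) (γ * x) := by
    simpa using (h _ _ _ _ hw.inv).mul hw
  have e1 : j⁻¹ = j := inv_eq_of_mul_eq_one_right h2
  have k2 : j * w⁻¹ * j⁻¹ * w * (j * w⁻¹ * j⁻¹ * w) = 1 := k1.sq_iff.2 (by
    rw [hκ, zero_add, show x * (γ * x) = γ * x ^ 2 by ring, hx, mul_div_cancel₀ _ hγ, add2])
  have k3 : j * (j * w⁻¹ * j⁻¹ * w) = w⁻¹ * j * w := by
    rw [e1, ← mul_assoc, ← mul_assoc, ← mul_assoc, h2, one_mul]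
  have k4 : j * w⁻¹ * j⁻¹ * w * j = j * (j * w⁻¹ * j⁻¹ * w) := by
    rw [k3, eq_inv_of_mul_eq_one_left k2]; group
  generalize j * w⁻¹ * j⁻¹ * w = x0 at *
  have nZ : ∀ m : G, m * X.p 0 b0 * m⁻¹ ≠ x0 := fun m em => by
    obtain ⟨d, ed⟩ := hU m (em ▸ k1.mem)
    exact hc0 (k1.uniq (em ▸ ed ▸ X.R_p 0 d)).2.1
  have s1 := hk x0 (h1 (X.U_le k1.mem)) k4
  have s2 : k⁻¹ * x0 * k * (k⁻¹ * x0 * k) = 1 := by
    calc _ = k⁻¹ * (x0 * x0) * k := by group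
      _ = 1 := by rw [k2]; group
  by_cases hZ : k⁻¹ * x0 * k ∈ X.Z
  · obtain ⟨d, ed⟩ := hZ
    have hd : d ≠ 0 := by
      rintro rfl
      rw [X.p_zero] at ed
      have : x0 = X.p 0 0 := by rw [X.p_zero]; calc x0 = k * (k⁻¹ * x0 * k) * k⁻¹ := by group
        _ = 1 := by rw [ed]; group
      exact hc0 (k1.uniq (this ▸ X.R_p 0 0)).2.1
    obtain ⟨t, ht⟩ := X.z_conj_all hb hd
    exact nZ (k * X.h t) (by
      calc _ = k * (X.h t * X.p 0 b0 * (X.h t)⁻¹) * k⁻¹ := by group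
        _ = x0 := by rw [ht, ← ed]; group)
  · obtain ⟨u, hu⟩ := conj_mul_z X hS h1 hN hsw hκ hΦ s1 hZ s2 b0
    have s3 : k⁻¹ * x0 * k * X.p 0 b0 = k⁻¹ * (w⁻¹ * (k * X.p 0 b0 * k⁻¹) * w) * k := by
      rw [e, ← k3, ← k4, ← e]; group
    refine nZ (k * u * k⁻¹ * w⁻¹ * k) ?_
    calc _ = k * (u * (k⁻¹ * (w⁻¹ * (k * X.p 0 b0 * k⁻¹) * w) * k) * u⁻¹) * k⁻¹ := by group
      _ = k * (u * (k⁻¹ * x0 * k) * X.p 0 b0 * u⁻¹) * k⁻¹ := by rw [← s3]; group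
      _ = x0 := by rw [← hu]; group

end EZc

theorem EH.zc (X : EH G F K) {S : Subgroup G} (hS : IsSylowIn 2 S ⊤) (h1 : X.S1 ≤ S)
    (hN : S ≤ 𝐍(X.U)) (hsw : X.Sw S) (hs : IsSimpleGroup G) : False := by
  haveI : Fact (Nat.Prime 2) := ⟨Nat.prime_two⟩
  have hP : X.P ≤ S := X.P_le_U.trans (X.U_le.trans h1)
  obtain ⟨⟨_, ⟨b0, rfl⟩, hc⟩, e1⟩ := ne_bot_iff_exists_ne_one.1
    (H49.inf_centralizer_ne_bot_of_le_normalizer hS.isP (X.isP_P.to_le X.Z_le_P) X.Z_ne_bot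
      (hN.trans X.norm_U_le))
  have hb : b0 ≠ 0 := by
    rintro rfl
    exact e1 (Subtype.ext X.p_zero)
  obtain ⟨a, ha, b, hb', e⟩ := X.P_nonab
  have e2 : X.ε 1 ≠ 1 := fun e => X.ne_z 1 0 (by rw [e, X.p_zero]; group)
  obtain ⟨g, -, hg⟩ := one_class (L := ⊤) (topEquiv (G := G)).isSimpleGroup hS
    ⟨a, hP ha, b, hP hb', e⟩ (X.Z_le_P.trans hP) X.Z_ne_bot X.Z_comm (by
      rintro _ ⟨d, rfl⟩ g - hg
      by_cases hd : d = 0
      · rw [hd, X.p_zero, mul_one, mul_inv_cancel]; exact one_mem _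
      · obtain ⟨t, ht⟩ := X.z_conj_all hb hd
        rw [← ht, show g * (X.h t * X.p 0 b0 * (X.h t)⁻¹) * g⁻¹ =
          g * X.h t * X.p 0 b0 * (g * X.h t)⁻¹ by group] at hg ⊢
        exact EZc.closed X hS h1 hN hsw (fun s hs => hc s hs) hb hg)
    (mem_top (X.ε 1)) (mem_top _) (H9.orderOf_eq_two_of_mul_self e2 (X.ε_sq X.one_mem)) (X.z_ord hb)
  exact X.ne_z g b0 hg

end H55.U3.BN
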